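import Groth.Agent.H14PtLift.Transc
import Groth.Agent.H14AlgSt.FieldPoint
import Groth.Agent.H14AlgSt.Props
import Groth.Agent.H14AlgSt.DiagPoints
import Groth.Agent.H14Count.Lang

/-!
# Points over the algebraically closed ground field
-/

set_option autoImplicit false
set_option backward.isDefEq.respectTransparency false
set_option backward.isDefEq.respectTransparency.types false

universe u

open CategoryTheory CategoryTheory.Limits AlgebraicGeometry Opposite

noncomputable section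

namespace Groth.Agent.H14PtLift

open H14Fib H14AlgSt

variable {S : Scheme.{u}} {𝒲 : AlgSt.Cat S} {T : Over S}

/-- The morphism to the base point under an object. -/
def str (q : 𝒲 ⥤ᵇ FibCat.overCat T) (w : 𝒲.obj) {A : Over S} (h : 𝒲.p.obj w = A) : A ⟶ T :=
  eqToHom h.symm ≫ eqToHom (q.w_obj w).symm ≫ (q.obj w).hom

lemma str_map (q : 𝒲 ⥤ᵇ FibCat.overCat T) {w' w : 𝒲.obj} (φ : w' ⟶ w) :
    𝒲.p.map φ ≫ str q w rfl = str q w' rfl := by
  have h1 := Over.w (q.map φ)
  have h2 := Functor.congr_hom q.w φ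
  change (q.map φ).left = _ at h2
  rw [h2, Category.assoc, Category.assoc] at h1
  simp only [str, eqToHom_refl, Category.id_comp]
  rw [← cancel_epi (eqToHom (q.w_obj w'))]
  refine h1.trans ?_
  simp

lemma str_of_lift (q : 𝒲 ⥤ᵇ FibCat.overCat T) {w' w : 𝒲.obj} (φ : w' ⟶ w) {A B : Over S} (m : A ⟶ B)
    [hφ : 𝒲.p.IsHomLift m φ] (hA : 𝒲.p.obj w' = A) (hB : 𝒲.p.obj w = B) :
    str q w' hA = m ≫ str q w hB := by
  subst hA hB
  rw [← str_map q φ]
  refine congrArg (· ≫ _) ?_
  simpa using (IsHomLift.fac' 𝒲.p m φ)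

/-- A section of a sheaf as a morphism and the composite with a structure map. -/
lemma secToHom_spMap {U : Over S} {F : AlgSp.Sp S} (Φ : AlgSt.ofSp F ⥤ᵇ FibCat.overCat U) {A : Over S}
    (x : F.obj.obj (op A)) :
    ((AlgSp.J S).uliftYonedaEquiv.symm x : (AlgSp.yon S).obj A ⟶ F) ≫ AlgSt.spMapOfOver Φ =
      (AlgSp.yon S).map (AlgSt.secHom Φ ⟨A, x⟩) := by
  apply (AlgSp.J S).uliftYonedaEquiv.injective
  rw [GrothendieckTopology.uliftYonedaEquiv_comp, Equiv.apply_symm_apply]
  refine (AlgSt.spMapOfOver_app Φ A x).trans ?_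
  exact congrArg ULift.up (Category.id_comp _).symm

variable {k : Type u} [Field k] [IsAlgClosed k] {s : Spec (CommRingCat.of k) ⟶ S}

/-- A stack over an algebraically closed point in which geometric points over the same point are isomorphic has a
point over it. -/
theorem exists_point (hW : AlgSt.IsAlgStack Scheme.fppfPrecoverage 𝒲)
    (q : 𝒲 ⥤ᵇ FibCat.overCat (Over.mk s)) (hne : Nonempty (AlgSt.Points 𝒲))
    (H : ∀ (Ω : Type u) [Field Ω] [IsAlgClosed Ω] (t : Spec (CommRingCat.of Ω) ⟶ S) (w₁ w₂ : 𝒲.obj)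
      (h₁ : 𝒲.p.obj w₁ = Over.mk t) (h₂ : 𝒲.p.obj w₂ = Over.mk t),
      str q w₁ h₁ = str q w₂ h₂ → ∃ β : w₁ ⟶ w₂, 𝒲.p.IsHomLift (𝟙 (Over.mk t)) β) :
    ∃ (w : 𝒲.obj) (h : 𝒲.p.obj w = Over.mk s), str q w h = 𝟙 (Over.mk s) := by
  obtain ⟨U, z, hz, hzs⟩ := hW.atlas
  obtain ⟨u₀⟩ := nonempty_chart_of_points hW hzs hne
  obtain ⟨U₀, hU₀, hu₀, -⟩ := TopologicalSpace.Opens.isBasis_iff_nbhd.mp U.left.isBasis_affineOpens
    (TopologicalSpace.Opens.mem_top u₀)
  haveI : Nontrivial Γ(U.left, U₀) := by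
    obtain ⟨x, -⟩ : u₀ ∈ Set.range hU₀.fromSpec := by rw [hU₀.range_fromSpec]; exact hu₀
    exact PrimeSpectrum.nontrivial (x : PrimeSpectrum Γ(U.left, U₀))
  obtain ⟨𝔪, h𝔪⟩ := Ideal.exists_maximal Γ(U.left, U₀)
  let L : Type u := Γ(U.left, U₀) ⧸ 𝔪
  letI : Field L := Ideal.Quotient.field 𝔪
  let c₀ : Spec (CommRingCat.of L) ⟶ U.left :=
    Spec.map (CommRingCat.ofHom (Ideal.Quotient.mk 𝔪)) ≫ hU₀.fromSpec
  haveI : IsClosedImmersion (Spec.map (CommRingCat.ofHom (Ideal.Quotient.mk 𝔪))) :=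
    IsClosedImmersion.spec_of_surjective _ Ideal.Quotient.mk_surjective
  have hc₀ : LocallyOfFiniteType c₀ := inferInstance
  let A : Over S := Over.mk (c₀ ≫ U.hom)
  let c : A ⟶ U := Over.homMk c₀ rfl
  let g := BasedFunctor.comp (AlgSt.overMap c) z
  have hsl : AlgSt.RepByAlgSpWith (AlgSp.LocP @LocallyOfFiniteType) z :=
    repWith_mono (fun _ _ _ h _ _ a b h' ha hb e => by
      haveI : Smooth h'.left := h a b h' ha hb e
      infer_instance) hz
  have hg : AlgSt.RepByAlgSpWith (AlgSp.LocP @LocallyOfFiniteType) g :=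
    repWith_locP_comp H12AlgSp.etLocal_lft (fibGrpd_overCat A) (fibGrpd_overCat U)
      (repWith_overMap H12AlgSp.etLocal_lft c hc₀) hsl
  let top := g.obj (topObj A)
  let qL : A ⟶ Over.mk s := str q top (g.w_obj (topObj A))
  have hq : ∀ {B : Over S} (b : B ⟶ A), str q (g.obj (Over.mk b)) (g.w_obj (Over.mk b)) = b ≫ qL := fun {B} b =>
    haveI : 𝒲.p.IsHomLift b (g.map (toTop (U := A) (Over.mk b))) :=
      @BasedFunctor.preserves_isHomLift _ _ _ _ g _ _ _ _ b _ (overCat_isHomLift (toTop (U := A) (Over.mk b)))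
    str_of_lift q (g.map (toTop (U := A) (Over.mk b))) b _ _
  let al : k →+* L := (Spec.preimage qL.left).hom
  have hal : Spec.map (CommRingCat.ofHom al) = qL.left := Spec.map_preimage _
  letI : Algebra k L := al.toAlgebra
  by_cases halg : Algebra.IsIntegral k L
  · have hb : Function.Bijective al := IsAlgClosed.algebraMap_bijective_of_isIntegral (k := k) (K := L)
    haveI : IsIso (Spec.preimage qL.left) :=
      (ConcreteCategory.isIso_iff_bijective (Spec.preimage qL.left)).2 hb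
    haveI : IsIso qL.left := by
      rw [← Spec.map_preimage qL.left]
      infer_instance
    haveI : IsIso ((Over.forget S).map qL) := ‹IsIso qL.left›
    haveI : IsIso qL := isIso_of_reflects_iso qL (Over.forget S)
    obtain ⟨r, φ, hφ⟩ := exists_sc_lift hW.isStack.1 (g.w_obj (topObj A)) (inv qL)
    haveI := hφ.toIsHomLift
    refine ⟨r, IsHomLift.domain_eq 𝒲.p (inv qL) φ, ?_⟩
    rw [str_of_lift q φ (inv qL) _ (g.w_obj (topObj A))]
    exact IsIso.inv_hom_id qL
  · exfalso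
    obtain ⟨t, ht⟩ : ∃ t : L, Transcendental k t := by
      by_contra hall
      push_neg at hall
      exact halg ⟨fun x => (not_not.1 (hall x) : IsAlgebraic k x).isIntegral⟩
    obtain ⟨Ω, _, _, a, b, hab, hinj⟩ := exists_pair_transcendental k L t ht
    let bS := Spec.map (CommRingCat.ofHom b)
    let aS := Spec.map (CommRingCat.ofHom a)
    let B : Over S := Over.mk (bS ≫ A.hom)
    have habS : aS ≫ qL.left = bS ≫ qL.left := by
      rw [← hal, ← Spec.map_comp, ← Spec.map_comp]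
      exact congrArg Spec.map (CommRingCat.hom_ext hab)
    let bΩ : B ⟶ A := Over.homMk bS rfl
    let aΩ : B ⟶ A := Over.homMk aS (by
      change aS ≫ A.hom = bS ≫ A.hom
      rw [← Over.w qL, ← Category.assoc, habS, Category.assoc])
    have hstr : str q (g.obj (Over.mk bΩ)) (g.w_obj (Over.mk bΩ)) =
        str q (g.obj (Over.mk aΩ)) (g.w_obj (Over.mk aΩ)) := by
      rw [hq, hq]
      exact Over.OverMorphism.ext habS.symm
    obtain ⟨β, hβ⟩ := H Ω (bS ≫ A.hom) _ _ _ _ hstr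
    have : IsIso β := isIso_of_fibGrpd hW.isStack.1 (𝟙 B) β
    let d : (FibCat.fp g g).obj := ⟨{ fst := Over.mk bΩ, snd := Over.mk aΩ, iso := asIso β }, hβ⟩
    obtain ⟨F, e, he, hF⟩ := hg A g
    obtain ⟨⟨B', x⟩, j, hj⟩ := essSurjOver_of_isEquivOver he d
    let Φ₁ := BasedFunctor.comp e (FibCat.fpFst g g)
    let Φ₂ := BasedFunctor.comp e (FibCat.fpSnd g g)
    haveI := hj
    obtain rfl : B' = B :=
      ((e.w_obj (⟨B', x⟩ : (AlgSt.ofSp F.obj).obj)).symm.trans
        (IsHomLift.domain_eq (FibCat.fp g g).p (𝟙 ((FibCat.fp g g).p.obj d)) j.hom))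
    have hsec : ∀ (P : FibCat.fp g g ⥤ᵇ FibCat.overCat A),
        AlgSt.secHom (BasedFunctor.comp e P) ⟨B, x⟩ = str P d rfl := by
      intro P
      haveI : (FibCat.fp g g).p.IsHomLift (𝟙 B) j.hom := hj
      haveI : (FibCat.overCat A).p.IsHomLift (𝟙 B) (P.map j.hom) := inferInstance
      refine Eq.trans ?_ ((str_of_lift P j.hom (𝟙 B) (e.w_obj (⟨B, x⟩ : (AlgSt.ofSp F.obj).obj)) rfl).trans
        (Category.id_comp _))
      simp [AlgSt.secHom, str]
      rfl
    have hb1 : AlgSt.secHom Φ₁ ⟨B, x⟩ = bΩ := (hsec (FibCat.fpFst g g)).trans (by simp [str, d]; rfl)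
    have hb2 : AlgSt.secHom Φ₂ ⟨B, x⟩ = aΩ := (hsec (FibCat.fpSnd g g)).trans (by simp [str, d]; rfl)
    let σ : (AlgSp.yon S).obj B ⟶ F.obj := (AlgSp.J S).uliftYonedaEquiv.symm x
    obtain ⟨V, av, hav, havs⟩ := F.property.atlas
    obtain ⟨P, i, i', sq⟩ := hav.1 σ
    haveI hie : Etale i.left := hav.2 σ i' i sq
    haveI his : Surjective i.left := havs.2 σ i' i sq
    obtain ⟨τ, hτ⟩ := H14Count.exists_lift_point i.left (𝟙 (Spec (CommRingCat.of Ω)))
    let τ' : B ⟶ P := Over.homMk τ (by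
      rw [← Over.w i, ← Category.assoc]
      exact (congrArg (· ≫ B.hom) hτ).trans (Category.id_comp _))
    obtain ⟨v, hv⟩ := (AlgSp.yon S).map_surjective ((AlgSp.yon S).map τ' ≫ i')
    have hva : (AlgSp.yon S).map v ≫ av = σ := by
      rw [hv, Category.assoc, sq.w, ← Category.assoc, ← Functor.map_comp,
        show τ' ≫ i = 𝟙 B from Over.OverMorphism.ext hτ, CategoryTheory.Functor.map_id, Category.id_comp]
    obtain ⟨pb, hpb⟩ := (AlgSp.yon S).map_surjective (av ≫ AlgSt.spMapOfOver Φ₁)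
    obtain ⟨pa, hpa⟩ := (AlgSp.yon S).map_surjective (av ≫ AlgSt.spMapOfOver Φ₂)
    have h1 : v ≫ pb = bΩ := (AlgSp.yon S).map_injective (by
      rw [Functor.map_comp, hpb, ← Category.assoc, hva, secToHom_spMap, hb1])
    have h2 : v ≫ pa = aΩ := (AlgSp.yon S).map_injective (by
      rw [Functor.map_comp, hpa, ← Category.assoc, hva, secToHom_spMap, hb2])
    haveI : LocallyOfFiniteType pb.left :=
      hF av (𝟙 _) pb hav (AlgSp.repWith_id _ _) (hpb.symm.trans (Category.comp_id _).symm)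
    let p₀ := v.left (IsLocalRing.closedPoint Ω)
    obtain ⟨V₀, hV₀, hp₀, -⟩ := TopologicalSpace.Opens.isBasis_iff_nbhd.mp V.left.isBasis_affineOpens
      (TopologicalSpace.Opens.mem_top p₀)
    have hr : Set.range (v.left) ⊆ Set.range hV₀.fromSpec := by
      rintro _ ⟨y, rfl⟩
      rw [hV₀.range_fromSpec]
      obtain rfl : y = IsLocalRing.closedPoint Ω := Subsingleton.elim (α := Spec (CommRingCat.of Ω)) _ _
      exact hp₀
    let v₀ := IsOpenImmersion.lift hV₀.fromSpec v.left hr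
    let ψ : Γ(V.left, V₀) →+* Ω := (Spec.preimage v₀).hom
    let la : L →+* Γ(V.left, V₀) := (Spec.preimage (hV₀.fromSpec ≫ pa.left)).hom
    let lb : L →+* Γ(V.left, V₀) := (Spec.preimage (hV₀.fromSpec ≫ pb.left)).hom
    have hft : lb.FiniteType := by
      refine (HasRingHomProperty.Spec_iff (P := @LocallyOfFiniteType)).1 ?_
      rw [Spec.map_preimage]
      infer_instance
    have key : ∀ (p : V ⟶ A) (a' : L →+* Ω), (v ≫ p).left = Spec.map (CommRingCat.ofHom a') →
        ψ.comp (Spec.preimage (hV₀.fromSpec ≫ p.left)).hom = a' := by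
      intro p a' hp
      have : Spec.preimage (hV₀.fromSpec ≫ p.left) ≫ Spec.preimage v₀ = CommRingCat.ofHom a' := by
        apply Spec.map_injective
        rw [Spec.map_comp, Spec.map_preimage, Spec.map_preimage, ← Category.assoc]
        exact (congrArg (· ≫ p.left) (IsOpenImmersion.lift_fac _ _ hr)).trans hp
      exact congrArg CommRingCat.Hom.hom this
    exact false_of_pair a b hab t hinj ψ la lb hft (key pa a (by rw [h2]; rfl)) (key pb b (by rw [h1]; rfl))

end Groth.Agent.H14PtLift
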