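import Groth.Agent.H14PtLift.Core
import Groth.Agent.H14AlgSt.PointsMor

/-!
# Lifting algebraically closed points along morphisms with surjective diagonal
-/

set_option autoImplicit false
set_option backward.isDefEq.respectTransparency false
set_option backward.isDefEq.respectTransparency.types false

universe u

open CategoryTheory CategoryTheory.Limits AlgebraicGeometry Opposite

noncomputable section

namespace Groth.Agent.H14PtLift

open H14Fib H14AlgSt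

variable {S : Scheme.{u}} {𝒳 𝒴 : AlgSt.Cat S}

/-- A lift of a point over an algebraically closed field in the image, for surjective diagonal. -/
theorem exists_lift (h𝒳 : AlgSt.IsAlgStack Scheme.fppfPrecoverage 𝒳)
    (h𝒴 : AlgSt.IsAlgStack Scheme.fppfPrecoverage 𝒴) (f : 𝒳 ⥤ᵇ 𝒴) (hΔ : AlgSt.IsSurjective (FibCat.diag f))
    (k : Type u) [Field k] [IsAlgClosed k] (s : Spec (CommRingCat.of k) ⟶ S) (y : 𝒴.obj)
    (hy : 𝒴.p.obj y = Over.mk s)
    (h : AlgSt.Points.mk ⟨k, s, y, hy⟩ ∈ Set.range (AlgSt.Points.map f)) :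
    ∃ (x : 𝒳.obj) (φ : f.obj x ⟶ y), 𝒳.p.obj x = Over.mk s ∧ 𝒴.p.IsHomLift (𝟙 (Over.mk s)) φ := by
  have := isFibered_of_fibGrpd h𝒴.isStack.1
  obtain ⟨Y, e₀, -, he₀⟩ := exists_fromOver (𝒳 := 𝒴) (U := Over.mk s) (x := y) hy
  let T : Over S := Over.mk s
  let W := FibCat.fp Y f
  have hW : AlgSt.IsAlgStack Scheme.fppfPrecoverage W := isAlgStack_fp' (isAlgStack_overCat T) h𝒳 h𝒴 Y f
  have hWp : FibCat.IsFibGrpd W.p := hW.isStack.1
  have hne : Nonempty (AlgSt.Points W) := by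
    obtain ⟨a, ha⟩ := h
    let pt : AlgSt.FPt (FibCat.overCat T) := ⟨k, s, topObj T, rfl⟩
    have h0 : AlgSt.Points.map Y (AlgSt.Points.mk pt) = AlgSt.Points.map f a := by
      rw [ha]
      exact mk_eq_of_hom (p := pt.map Y) (q := ⟨k, s, y, hy⟩) e₀.hom
    obtain ⟨v, -, -⟩ := exists_points_fp (fibGrpd_overCat T) h𝒳.isStack.1 h𝒴.isStack.1 (F := Y) (G := f) h0
    exact ⟨v⟩
  obtain ⟨w, hw, hstr⟩ := exists_point hW (FibCat.fpFst Y f) hne (fun Ω _ _ t w₁ w₂ h₁ h₂ he => by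
    have l₁ : w₁.obj.fst.left = Over.mk t := h₁
    have l₂ : w₂.obj.fst.left = Over.mk t := h₂
    let a : w₁.obj.fst ⟶ w₂.obj.fst := Over.homMk (eqToHom (l₁.trans l₂.symm)) (by
      have he' : eqToHom l₁.symm ≫ w₁.obj.fst.hom = eqToHom l₂.symm ≫ w₂.obj.fst.hom := by
        have h' := he
        simp only [str, eqToHom_trans_assoc] at h'
        exact h'
      rw [← cancel_epi (eqToHom l₁.symm), he', ← Category.assoc, eqToHom_trans])
    have hx₁ : 𝒳.p.obj w₁.obj.snd = Over.mk t := (fp_snd_obj w₁).trans h₁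
    have hx₂ : 𝒳.p.obj w₂.obj.snd = Over.mk t := (fp_snd_obj w₂).trans h₂
    have ha : (FibCat.overCat T).p.IsHomLift (𝟙 (Over.mk t)) a := IsHomLift.of_fac' _ _ _ l₁ l₂ (by
      rw [Category.id_comp, eqToHom_trans]
      rfl)
    have hYa : 𝒴.p.IsHomLift (𝟙 (Over.mk t)) (Y.map a) :=
      @BasedFunctor.preserves_isHomLift _ _ _ _ Y _ _ _ _ (𝟙 (Over.mk t)) a ha
    have hi₁ : 𝒴.p.IsHomLift (𝟙 (Over.mk t)) w₁.obj.iso.inv := by
      have h' : 𝒴.p.IsHomLift (𝟙 w₁.obj.fst.left) w₁.obj.iso.hom := w₁.property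
      rw [l₁] at h'
      exact IsHomLift.lift_id_inv 𝒴.p (Over.mk t) w₁.obj.iso
    have hi₂ : 𝒴.p.IsHomLift (𝟙 (Over.mk t)) w₂.obj.iso.hom := by
      have h' : 𝒴.p.IsHomLift (𝟙 w₂.obj.fst.left) w₂.obj.iso.hom := w₂.property
      rwa [l₂] at h'
    have hβ : 𝒴.p.IsHomLift (𝟙 (Over.mk t)) (w₁.obj.iso.inv ≫ Y.map a ≫ w₂.obj.iso.hom) := by
      simpa using homLift_comp' hi₁ (homLift_comp' hYa hi₂)
    obtain ⟨α, hα, hfα⟩ := exists_lift_hom_of_surjective_diag h𝒳 h𝒴 hΔ hx₁ hx₂ _ hβ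
    refine ⟨fpHom a α (by rw [hfα, Iso.hom_inv_id_assoc]), ?_⟩
    exact (fp_isHomLift_iff _ _).2 ha)
  have l : w.obj.fst.left = T := hw
  have hh : w.obj.fst.hom = eqToHom l := by
    have h' : eqToHom l.symm ≫ w.obj.fst.hom = 𝟙 T := by
      have h'' := hstr
      simp only [str, eqToHom_trans_assoc] at h''
      exact h''
    rw [← cancel_epi (eqToHom l.symm), h']
    simp
  have hi : 𝒴.p.IsHomLift (𝟙 T) w.obj.iso.inv := by
    have h' : 𝒴.p.IsHomLift (𝟙 w.obj.fst.left) w.obj.iso.hom := w.property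
    rw [l] at h'
    exact IsHomLift.lift_id_inv 𝒴.p T w.obj.iso
  have ht : 𝒴.p.IsHomLift (𝟙 T) (Y.map (toTop w.obj.fst)) := by
    have h' : (FibCat.overCat T).p.IsHomLift (𝟙 T) (toTop w.obj.fst) := IsHomLift.of_fac' _ _ _ l rfl (by
      change w.obj.fst.hom = _
      rw [hh]
      simp)
    exact @BasedFunctor.preserves_isHomLift _ _ _ _ Y _ _ _ _ (𝟙 T) (toTop w.obj.fst) h'
  refine ⟨w.obj.snd, w.obj.iso.inv ≫ Y.map (toTop w.obj.fst) ≫ e₀.hom, (fp_snd_obj w).trans hw, ?_⟩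
  simpa using homLift_comp' hi (homLift_comp' ht he₀)

end Groth.Agent.H14PtLift
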