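import Mathlib.RingTheory.PolynomialAlgebra
import Mathlib.RingTheory.Flat.Basic
import Mathlib.FieldTheory.IsAlgClosed.AlgebraicClosure
import Mathlib.RingTheory.Spectrum.Prime.Chevalley
import Mathlib.RingTheory.FiniteType
import Mathlib.RingTheory.Localization.FractionRing
import Mathlib.RingTheory.Flat.TorsionFree
import Mathlib.RingTheory.Ideal.MinimalPrime.Basic
import Mathlib.Algebra.Polynomial.Roots

/-!
# Pairs of points separating a transcendental element
-/

set_option autoImplicit false

universe u

open Polynomial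
open scoped TensorProduct

namespace Groth.Agent.H14PtLift

variable (k L : Type u) [Field k] [Field L] [Algebra k L]

/-- A transcendental element becomes transcendental over the second copy of the field in a suitable pair of points. -/
theorem exists_pair_transcendental (t : L) (ht : Transcendental k t) :
    ∃ (Ω : Type u) (_ : Field Ω) (_ : IsAlgClosed Ω) (a b : L →+* Ω),
      a.comp (algebraMap k L) = b.comp (algebraMap k L) ∧
        Function.Injective (eval₂RingHom b (a t)) := by
  let ι : k[X] →ₐ[k] L := aeval t
  have hι : Function.Injective ι := transcendental_iff_injective.1 ht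
  let φ : L ⊗[k] k[X] →ₐ[k] L ⊗[k] L := Algebra.TensorProduct.map (AlgHom.id k L) ι
  have hφ : Function.Injective φ :=
    Module.Flat.lTensor_preserves_injective_linearMap (M := L) ι.toLinearMap hι
  let ψ : L[X] →+* L ⊗[k] L := (φ : L ⊗[k] k[X] →+* L ⊗[k] L).comp (polyEquivTensor k L).toRingEquiv.toRingHom
  have hψ : Function.Injective ψ := hφ.comp (polyEquivTensor k L).injective
  obtain ⟨P, hP, hP'⟩ : ∃ P : Ideal (L ⊗[k] L), P.IsPrime ∧ P.comap ψ = ⊥ :=
    Ideal.exists_comap_eq_of_mem_minimalPrimes_of_injective hψ (⊥ : Ideal L[X])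
      (by rw [IsDomain.minimalPrimes_eq_singleton_bot]; rfl)
  let Ω := AlgebraicClosure (FractionRing ((L ⊗[k] L) ⧸ P))
  let m : L ⊗[k] L →+* Ω := (algebraMap (FractionRing ((L ⊗[k] L) ⧸ P)) Ω).comp
    ((algebraMap ((L ⊗[k] L) ⧸ P) (FractionRing ((L ⊗[k] L) ⧸ P))).comp (Ideal.Quotient.mk P))
  have hm : ∀ x, m x = 0 → x ∈ P := fun x hx => by
    rw [← Ideal.Quotient.eq_zero_iff_mem]
    refine IsFractionRing.injective _ (FractionRing ((L ⊗[k] L) ⧸ P)) ?_
    exact (algebraMap (FractionRing ((L ⊗[k] L) ⧸ P)) Ω).injective (hx.trans (by simp))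
  refine ⟨Ω, inferInstance, inferInstance, m.comp Algebra.TensorProduct.includeRight.toRingHom,
    m.comp Algebra.TensorProduct.includeLeftRingHom, ?_, ?_⟩
  · ext r
    simp only [RingHom.comp_apply, AlgHom.toRingHom_eq_coe, RingHom.coe_coe,
      Algebra.TensorProduct.includeRight_apply, Algebra.TensorProduct.includeLeftRingHom_apply,
      Algebra.algebraMap_eq_smul_one, TensorProduct.smul_tmul]
  · have he : eval₂RingHom (m.comp Algebra.TensorProduct.includeLeftRingHom)
        ((m.comp Algebra.TensorProduct.includeRight.toRingHom) t) = m.comp ψ := by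
      refine Polynomial.ringHom_ext (fun r => ?_) ?_
      · simp [ψ, φ, polyEquivTensor_apply]
      · simp [ψ, φ, ι, polyEquivTensor_apply]
    rw [he, injective_iff_map_eq_zero]
    intro p hp
    have : p ∈ P.comap ψ := hm _ hp
    rwa [hP'] at this

variable {k L}

/-- A transcendental element of a finitely generated domain cannot differ from infinitely many scalars by units. -/
theorem false_of_units {D : Type u} [CommRing D] [IsDomain D] [Algebra L D] [Algebra.FiniteType L D] (τ : D)
    (hτ : Function.Injective (aeval (R := L) τ)) (s : Set L) (hs : s.Infinite)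
    (hu : ∀ c ∈ s, IsUnit (τ - algebraMap L D c)) : False := by
  letI : Algebra L[X] D := (aeval (R := L) τ).toRingHom.toAlgebra
  haveI : IsScalarTower L L[X] D := IsScalarTower.of_algebraMap_eq fun x => ((aeval (R := L) τ).commutes x).symm
  haveI : Algebra.FiniteType L[X] D := Algebra.FiniteType.of_restrictScalars_finiteType L L[X] D
  haveI : Algebra.FinitePresentation L[X] D := Algebra.FinitePresentation.of_finiteType.1 inferInstance
  haveI : Module.IsTorsionFree L[X] D := by
    refine Module.IsTorsionFree.of_smul_eq_zero fun r x h => ?_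
    rw [Algebra.smul_def, mul_eq_zero] at h
    exact h.imp_left fun h0 => hτ (h0.trans (map_zero _).symm)
  have hrange : IsOpen (Set.range (PrimeSpectrum.comap (algebraMap L[X] D))) :=
    (PrimeSpectrum.isOpenMap_comap_of_hasGoingDown_of_finitePresentation (R := L[X]) (S := D)).isOpen_range
  obtain ⟨q₁⟩ : Nonempty (PrimeSpectrum D) := inferInstance
  obtain ⟨_, ⟨g, rfl⟩, hqU, hgsub⟩ := PrimeSpectrum.isTopologicalBasis_basic_opens.exists_subset_of_mem_open
    (Set.mem_range_self q₁) hrange
  have hg : g ≠ 0 := by
    rintro rfl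
    simp at hqU
  obtain ⟨c, hcs, hc⟩ : ∃ c ∈ s, g.eval c ≠ 0 := by
    by_contra hall
    push_neg at hall
    exact hg (Polynomial.eq_zero_of_infinite_isRoot g (hs.mono hall))
  let q₀ : PrimeSpectrum L[X] := ⟨Ideal.span {X - Polynomial.C c},
    (Ideal.span_singleton_prime (X_sub_C_ne_zero c)).2 (prime_X_sub_C c)⟩
  obtain ⟨q, hq⟩ := hgsub (show q₀ ∈ (PrimeSpectrum.basicOpen g : Set (PrimeSpectrum L[X])) from
    fun h => hc ((Polynomial.dvd_iff_isRoot).1 (Ideal.mem_span_singleton.1 h)))
  have h1 : X - Polynomial.C c ∈ (PrimeSpectrum.comap (algebraMap L[X] D) q).asIdeal := by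
    rw [hq]
    exact Ideal.mem_span_singleton_self _
  have h2 : aeval τ (X - Polynomial.C c) ∈ q.asIdeal := h1
  rw [map_sub, aeval_X, aeval_C] at h2
  exact q.isPrime.ne_top (Ideal.eq_top_of_isUnit_mem _ h2 (hu c hcs))

/-- A finitely generated algebra containing both copies of the field contradicts transcendence. -/
theorem false_of_pair [Infinite k] {Ω C : Type u} [Field Ω] [CommRing C] (a b : L →+* Ω)
    (hab : a.comp (algebraMap k L) = b.comp (algebraMap k L)) (t : L)
    (hinj : Function.Injective (eval₂RingHom b (a t)))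
    (ψ : C →+* Ω) (la lb : L →+* C) (hft : lb.FiniteType) (ha : ψ.comp la = a) (hb : ψ.comp lb = b) : False := by
  have hft' : (ψ.rangeRestrict.comp lb).FiniteType :=
    RingHom.FiniteType.comp_surjective (f := lb) (g := ψ.rangeRestrict) hft ψ.rangeRestrict_surjective
  letI : Algebra L ψ.range := (ψ.rangeRestrict.comp lb).toAlgebra
  haveI : Algebra.FiniteType L ψ.range := hft'
  have hbv : ∀ r, (algebraMap L ψ.range r : Ω) = b r := fun r => congr($hb r)
  have hav : (ψ.rangeRestrict (la t) : Ω) = a t := congr($ha t)
  refine false_of_units (ψ.rangeRestrict (la t)) ?_ (Set.range (algebraMap k L))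
    (Set.infinite_range_of_injective (algebraMap k L).injective) ?_
  · have he : (ψ.range.subtype).comp (aeval (R := L) (ψ.rangeRestrict (la t))).toRingHom =
        eval₂RingHom b (a t) := by
      refine Polynomial.ringHom_ext (fun r => ?_) ?_
      · simpa using hbv r
      · simpa using hav
    intro p q h
    refine hinj ?_
    rw [← he]
    exact congrArg (ψ.range.subtype) h
  · rintro _ ⟨c, rfl⟩
    have htc : t - algebraMap k L c ≠ 0 := fun h0 => by
      apply X_sub_C_ne_zero (algebraMap k L c)
      apply hinj
      rw [map_zero, coe_eval₂RingHom, eval₂_sub, eval₂_X, eval₂_C]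
      change a t - (b.comp (algebraMap k L)) c = 0
      rw [← hab, RingHom.comp_apply, ← map_sub, h0, map_zero]
    convert ((Ne.isUnit htc).map la).map ψ.rangeRestrict using 1
    refine Subtype.ext ?_
    have h1 : (a.comp (algebraMap k L)) c = (b.comp (algebraMap k L)) c := by rw [hab]
    rw [RingHom.comp_apply, RingHom.comp_apply] at h1
    simp only [AddSubgroupClass.coe_sub, map_sub, hbv, hav]
    rw [← h1]
    exact congrArg (a t - ·) congr($ha _).symm

end Groth.Agent.H14PtLift
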